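import Groth.Prelude.Def_SGA4hB
import Mathlib

/-!
# Traces on symmetric tensors and the inverse characteristic polynomial
-/

set_option autoImplicit false
universe u

open TensorProduct PiTensorProduct Polynomial Matrix

namespace Groth.Agent.H18Lin.MasterTheorem

variable {A : Type u} [CommRing A] {m : ℕ}

/-- The multiset of values of a tuple. -/
def cls {n : ℕ} (g : Fin n → Fin m) : Sym (Fin m) n :=
  ⟨Finset.univ.val.map g, by simp⟩

theorem exists_rep {n : ℕ} (ν : Sym (Fin m) n) : ∃ g : Fin n → Fin m, cls g = ν := by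
  obtain ⟨ν, hν⟩ := ν
  induction ν using Quotient.inductionOn with
  | _ l =>
    simp only [Multiset.quot_mk_to_coe, Multiset.coe_card] at hν
    subst hν
    refine ⟨fun i => l.get i, Subtype.ext ?_⟩
    simp only [cls]
    rw [Fin.univ_val_map]
    exact congrArg Multiset.ofList (List.ofFn_get l)

/-- A tuple with given multiset of values. -/
noncomputable def rep {n : ℕ} (ν : Sym (Fin m) n) : Fin n → Fin m := (exists_rep ν).choose

theorem cls_rep {n : ℕ} (ν : Sym (Fin m) n) : cls (rep ν) = ν := (exists_rep ν).choose_spec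

theorem cls_comp {n : ℕ} (g : Fin n → Fin m) (σ : Equiv.Perm (Fin n)) : cls (g ∘ σ) = cls g := by
  apply Subtype.ext
  simp only [cls, Sym.coe_mk, ← Sym.val_eq_coe]
  rw [← Multiset.map_map]
  congr 1
  exact Multiset.map_univ_val_equiv σ

theorem exists_perm {n : ℕ} (g : Fin n → Fin m) :
    ∃ σ : Equiv.Perm (Fin n), g ∘ σ = rep (cls g) := by
  classical
  have h : ∀ a, Nonempty ({i // rep (cls g) i = a} ≃ {i // g i = a}) := fun a => by
    refine ⟨Fintype.equivOfCardEq ?_⟩
    have h0 := congrArg (fun s : Sym (Fin m) n => Multiset.count a (s : Multiset (Fin m))) (cls_rep (cls g))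
    simp only [cls, Sym.coe_mk, Multiset.count_map, eq_comm (a := a)] at h0
    rw [Fintype.card_subtype, Fintype.card_subtype]
    exact h0
  exact ⟨Equiv.ofFiberEquiv fun a => (h a).some, funext fun i => Equiv.ofFiberEquiv_map _ i⟩

/-- The trace of the `n`-th symmetric power of a matrix, in the basis of orbit sums. -/
noncomputable def S (n : ℕ) (a : Matrix (Fin m) (Fin m) A) : A :=
  ∑ ν : Sym (Fin m) n, ∑ g ∈ Finset.univ.filter (fun g : Fin n → Fin m => cls g = ν), ∏ i, a (rep ν i) (g i)

/-- The identity to prove. -/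
noncomputable def Φ (a : Matrix (Fin m) (Fin m) A) : PowerSeries A :=
  ((det (1 - (Polynomial.X : A[X]) • a.map Polynomial.C) : A[X]) : PowerSeries A) * PowerSeries.mk fun n => S n a

theorem map_S {B : Type u} [CommRing B] (f : A →+* B) (n : ℕ) (a : Matrix (Fin m) (Fin m) A) :
    f (S n a) = S n (a.map f) := by
  simp [S, map_sum, map_prod]

theorem map_Φ {B : Type u} [CommRing B] (f : A →+* B) (a : Matrix (Fin m) (Fin m) A) :
    PowerSeries.map f (Φ a) = Φ (a.map f) := by
  rw [Φ, Φ, map_mul, ← Polynomial.polynomial_map_coe]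
  congr 1
  · congr 1
    rw [← Polynomial.coe_mapRingHom, RingHom.map_det]
    congr 1
    ext1 i j
    simp only [RingHom.mapMatrix_apply, Matrix.map_apply, Matrix.sub_apply, Matrix.smul_apply, smul_eq_mul,
      map_sub, Polynomial.coe_mapRingHom, Polynomial.map_sub, Polynomial.map_mul, Polynomial.map_X, Polynomial.map_C]
    congr 1
    by_cases h : i = j
    · subst h; rw [Matrix.one_apply_eq, Matrix.one_apply_eq, Polynomial.map_one]
    · rw [Matrix.one_apply_ne h, Matrix.one_apply_ne h, Polynomial.map_zero]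
  · ext n
    simp [map_S]

section Module

variable {M : Type u} [AddCommGroup M] [Module A M] (b : Module.Basis (Fin m) A M) (u : M →ₗ[A] M)

/-- The symmetric tensors. -/
abbrev Gam (A : Type u) [CommRing A] (M : Type u) [AddCommGroup M] [Module A M] (n : ℕ) :
    Submodule A (⨂[A] _i : Fin n, M) :=
  ⨅ σ : Equiv.Perm (Fin n),
    LinearMap.eqLocus ((PiTensorProduct.reindex A (fun _ : Fin n => M) σ).toLinearMap) LinearMap.id

/-- The tensor basis. -/
noncomputable abbrev bT (n : ℕ) : Module.Basis (Fin n → Fin m) A (⨂[A] _i : Fin n, M) :=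
  Basis.piTensorProduct fun _ => b

theorem reindex_bT {n : ℕ} (σ : Equiv.Perm (Fin n)) (g : Fin n → Fin m) :
    PiTensorProduct.reindex A (fun _ : Fin n => M) σ (bT b n g) = bT b n (g ∘ σ.symm) := by
  rw [Basis.piTensorProduct_apply, Basis.piTensorProduct_apply]
  exact PiTensorProduct.reindex_tprod _ _

theorem sum_mem {n : ℕ} (c : Sym (Fin m) n → A) : (∑ g, c (cls g) • bT b n g) ∈ Gam A M n := by
  rw [Submodule.mem_iInf]
  intro σ
  rw [LinearMap.mem_eqLocus]
  simp only [LinearEquiv.coe_coe, map_sum, map_smul, reindex_bT, LinearMap.id_apply]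
  refine Fintype.sum_equiv (σ.arrowCongr (Equiv.refl _)) _ _ fun g => ?_
  show c (cls g) • bT b n (g ∘ σ.symm) = c (cls (g ∘ σ.symm)) • bT b n (g ∘ σ.symm)
  rw [cls_comp]

theorem repr_symm {n : ℕ} (x : Gam A M n) (g : Fin n → Fin m) :
    (bT b n).repr x.1 g = (bT b n).repr x.1 (rep (cls g)) := by
  obtain ⟨σ, hσ⟩ := exists_perm g
  have hx : PiTensorProduct.reindex A (fun _ : Fin n => M) σ.symm x.1 = x.1 :=
    (Submodule.mem_iInf _).mp x.2 σ.symm
  have key : ∀ y : ⨂[A] _i : Fin n, M,
      (bT b n).repr (PiTensorProduct.reindex A (fun _ : Fin n => M) σ.symm y) (g ∘ σ) = (bT b n).repr y g := by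
    intro y
    have : (Finsupp.lapply (g ∘ σ) ∘ₗ (bT b n).repr.toLinearMap) ∘ₗ
        (PiTensorProduct.reindex A (fun _ : Fin n => M) σ.symm).toLinearMap =
        Finsupp.lapply g ∘ₗ (bT b n).repr.toLinearMap := by
      refine (bT b n).ext fun h => ?_
      simp only [LinearMap.comp_apply, LinearEquiv.coe_coe, Finsupp.lapply_apply, reindex_bT, Equiv.symm_symm,
        Module.Basis.repr_self, Finsupp.single_apply]
      simp only [(σ.surjective.injective_comp_right).eq_iff]
    exact LinearMap.congr_fun this y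
  rw [← hσ, ← key x.1, hx]

/-- Coordinates on symmetric tensors. -/
noncomputable def coords (n : ℕ) : (Sym (Fin m) n → A) ≃ₗ[A] Gam A M n where
  toFun c := ⟨∑ g, c (cls g) • bT b n g, sum_mem b c⟩
  map_add' c c' := Subtype.ext (by simp [add_smul, Finset.sum_add_distrib])
  map_smul' r c := Subtype.ext (by simp [Finset.smul_sum, smul_smul])
  invFun x ν := (bT b n).repr x.1 (rep ν)
  left_inv c := by
    funext ν
    show (bT b n).repr (∑ g, c (cls g) • bT b n g) (rep ν) = c ν
    rw [Module.Basis.repr_sum_self, cls_rep]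
  right_inv x := by
    apply Subtype.ext
    show ∑ g, (bT b n).repr x.1 (rep (cls g)) • bT b n g = x.1
    simp only [← repr_symm b x]
    exact (bT b n).sum_repr x.1

theorem trace_eq {n : ℕ} (γ : Gam A M n →ₗ[A] Gam A M n)
    (hγ : ∀ x, (γ x).1 = PiTensorProduct.map (fun _ : Fin n => u) x.1) :
    LinearMap.trace A _ γ = S n (LinearMap.toMatrix b b u) := by
  classical
  let B := (Pi.basisFun A (Sym (Fin m) n)).map (coords b n)
  rw [LinearMap.trace_eq_matrix_trace A B, Matrix.trace, S]
  refine Finset.sum_congr rfl fun ν _ => ?_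
  rw [Matrix.diag_apply, LinearMap.toMatrix_apply]
  show (bT b n).repr (γ (B ν)).1 (rep ν) = _
  have hB : (B ν).1 = ∑ g ∈ Finset.univ.filter (fun g : Fin n → Fin m => cls g = ν), bT b n g := by
    show ∑ g, (Pi.basisFun A _ ν) (cls g) • bT b n g = _
    rw [Finset.sum_filter]
    refine Finset.sum_congr rfl fun g _ => ?_
    simp [Pi.single_apply, ite_smul]
  rw [hγ, hB, map_sum, map_sum, Finset.sum_apply']
  refine Finset.sum_congr rfl fun g _ => ?_
  rw [Basis.piTensorProduct_apply, PiTensorProduct.map_tprod, Basis.piTensorProduct_repr_tprod_apply]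
  simp [LinearMap.toMatrix_apply]

theorem det_eq : SGA4h.detOneSub (ModuleCat.of A M) (ModuleCat.ofHom u) =
    det (1 - (Polynomial.X : A[X]) • (LinearMap.toMatrix b b u).map Polynomial.C) := by
  classical
  show LinearMap.det (LinearMap.id - (Polynomial.X : A[X]) • u.baseChange A[X] :
    A[X] ⊗[A] M →ₗ[A[X]] A[X] ⊗[A] M) = _
  rw [← LinearMap.det_toMatrix (b.baseChange A[X])]
  congr 1
  ext1 i j
  rw [LinearMap.toMatrix_apply]
  simp [LinearMap.toMatrix_apply, Module.Basis.baseChange_apply, Matrix.one_apply, Finsupp.single_apply,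
    Matrix.smul_apply, eq_comm (a := i), Polynomial.smul_eq_C_mul]

/-- The symmetric powers of an endomorphism. -/
noncomputable def gam (n : ℕ) : Gam A M n →ₗ[A] Gam A M n :=
  (PiTensorProduct.map fun _ : Fin n => u).restrict fun x hx => by
    rw [Submodule.mem_iInf] at hx ⊢
    intro σ
    have h : PiTensorProduct.reindex A (fun _ : Fin n => M) σ x = x := hx σ
    show PiTensorProduct.reindex A (fun _ : Fin n => M) σ (PiTensorProduct.map (fun _ : Fin n => u) x) = _
    rw [← PiTensorProduct.map_reindex (fun _ : Fin n => u) σ x, h]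
    rfl

end Module

/-- Triangularisation over an algebraically closed field. -/
theorem exists_triangular {K : Type u} [Field K] [IsAlgClosed K] :
    ∀ (d : ℕ) (V : Type u) [AddCommGroup V] [Module K V] [FiniteDimensional K V],
      Module.finrank K V = d → ∀ f : V →ₗ[K] V,
        ∃ b : Module.Basis (Fin d) K V, ∀ j, f (b j) ∈ Submodule.span K (b '' {i | i ≤ j}) := by
  intro d
  induction d with
  | zero => intro V _ _ _ hd f; exact ⟨(Module.finBasisOfFinrankEq K V hd), fun j => j.elim0⟩
  | succ d ih =>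
    intro V _ _ _ hd f
    haveI : Nontrivial V := Module.nontrivial_of_finrank_pos (R := K) (by omega)
    obtain ⟨c, hc⟩ := Module.End.exists_eigenvalue f
    obtain ⟨v, hv⟩ := hc.exists_hasEigenvector
    obtain ⟨N, hN⟩ := Submodule.exists_isCompl (K ∙ v)
    let π := N.projectionOnto (K ∙ v) hN.symm
    have hdN : Module.finrank K N = d := by
      have h1 := Submodule.finrank_add_eq_of_isCompl hN
      rw [finrank_span_singleton hv.2, hd] at h1
      omega
    obtain ⟨b', hb'⟩ := ih N hdN (π.comp (f.comp N.subtype))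
    let b : Module.Basis (Fin (d + 1)) K V := Module.Basis.mkFinCons v b'
      (fun c x hx h => by
        have h1 : c • v ∈ (K ∙ v) ⊓ N :=
          ⟨Submodule.smul_mem _ _ (Submodule.mem_span_singleton_self v), by
            rw [eq_neg_of_add_eq_zero_left h]; exact N.neg_mem hx⟩
        rw [hN.inf_eq_bot, Submodule.mem_bot, smul_eq_zero] at h1
        exact h1.resolve_right hv.2)
      (fun z => by
        obtain ⟨a, ha, y, hy, rfl⟩ := Submodule.mem_sup.mp (hN.sup_eq_top.ge (Submodule.mem_top (x := z)))
        obtain ⟨r, rfl⟩ := Submodule.mem_span_singleton.mp ha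
        exact ⟨-r, by rw [neg_smul]; simpa using hy⟩)
    have hb : ⇑b = Fin.cons v (fun i => (b' i : V)) := Module.Basis.coe_mkFinCons _ _ _ _
    refine ⟨b, fun j => ?_⟩
    refine Fin.cases ?_ (fun j => ?_) j
    · rw [hb, Fin.cons_zero, (Module.End.mem_eigenspace_iff.mp hv.1)]
      exact Submodule.smul_mem _ _ (Submodule.subset_span ⟨0, le_refl (0 : Fin (d + 1)), Fin.cons_zero _ _⟩)
    · rw [show b j.succ = (b' j : V) by rw [hb, Fin.cons_succ]]
      have hsplit : f (b' j) - (π (f (b' j)) : V) ∈ K ∙ v := by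
        apply (Submodule.projectionOnto_apply_eq_zero_iff hN.symm).mp
        rw [map_sub, Submodule.projectionOnto_apply_left, sub_self]
      obtain ⟨r, hr⟩ := Submodule.mem_span_singleton.mp hsplit
      have : f (b' j) = r • v + (π (f (b' j)) : V) := by rw [hr]; abel
      rw [this]
      refine add_mem (Submodule.smul_mem _ _ (Submodule.subset_span ⟨0, Fin.zero_le _, by rw [hb]; exact Fin.cons_zero _ _⟩)) ?_
      have h := Submodule.mem_map_of_mem (f := N.subtype) (hb' j)
      rw [Submodule.map_span] at h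
      refine Submodule.span_mono ?_ h
      rintro _ ⟨_, ⟨i, hi, rfl⟩, rfl⟩
      exact ⟨i.succ, Fin.succ_le_succ_iff.mpr hi, by rw [hb, Fin.cons_succ]; rfl⟩

theorem Φ_triangular (t : Matrix (Fin m) (Fin m) A) (ht : ∀ i j, j < i → t i j = 0) : Φ t = 1 := by
  classical
  have hdet : det (1 - (Polynomial.X : A[X]) • t.map Polynomial.C) =
      ∏ i, (1 - Polynomial.X * Polynomial.C (t i i)) := by
    rw [Matrix.det_of_upperTriangular]
    · exact Finset.prod_congr rfl fun i _ => by simp
    · intro i j hij
      have : (i : Fin m) ≠ j := hij.ne'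
      simp [ht i j hij, this]
  have hS : ∀ n, S n t = ∑ ν : Sym (Fin m) n, ((ν : Multiset (Fin m)).map fun i => t i i).prod := by
    intro n
    refine Finset.sum_congr rfl fun ν _ => ?_
    rw [Finset.sum_eq_single (rep ν)]
    · conv_rhs => rw [← cls_rep ν]
      simp only [cls, Sym.coe_mk]
      rw [Multiset.map_map]
      rfl
    · intro g hg hne
      by_contra hp
      have hle : ∀ i, rep ν i ≤ g i := fun i => le_of_not_gt fun hlt =>
        hp (Finset.prod_eq_zero (Finset.mem_univ i) (ht _ _ hlt))
      apply hne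
      funext i
      refine Fin.ext ((Finset.sum_eq_sum_iff_of_le (s := Finset.univ) (f := fun i => (rep ν i : ℕ))
        (g := fun i => (g i : ℕ)) fun i _ => hle i).mp ?_ i (Finset.mem_univ i)).symm
      have h1 : cls (rep ν) = cls g := (cls_rep ν).trans (Finset.mem_filter.mp hg).2.symm
      have h2 := congrArg (fun s : Sym (Fin m) n => ((s : Multiset (Fin m)).map fun x : Fin m => (x : ℕ)).sum) h1
      simp only [cls, Sym.coe_mk, Multiset.map_map] at h2
      exact h2
    · intro h
      exact absurd (Finset.mem_filter.mpr ⟨Finset.mem_univ (rep ν), cls_rep ν⟩) h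
  have hgeo : (PowerSeries.mk fun n => S n t) = ∏ i : Fin m, PowerSeries.mk fun k => t i i ^ k := by
    ext n
    rw [PowerSeries.coeff_mk, PowerSeries.coeff_prod, hS]
    simp only [PowerSeries.coeff_mk]
    refine Finset.sum_bij' (fun ν _ => Multiset.toFinsupp (ν : Multiset (Fin m)))
      (fun l hl => ⟨Finsupp.toMultiset l, ?_⟩) ?_ ?_ ?_ ?_ ?_
    · rw [Finsupp.card_toMultiset, Finsupp.sum_fintype _ _ fun _ => rfl]
      exact (Finset.mem_finsuppAntidiag.mp hl).1
    · intro ν _
      rw [Finset.mem_finsuppAntidiag]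
      refine ⟨?_, Finset.subset_univ _⟩
      show ∑ i, Multiset.toFinsupp (ν : Multiset (Fin m)) i = n
      simp
    · exact fun _ _ => Finset.mem_univ _
    · exact fun ν _ => Subtype.ext (Multiset.toFinsupp_toMultiset _)
    · exact fun l _ => Finsupp.toMultiset_toFinsupp l
    · intro ν _
      rw [Finset.prod_multiset_map_count]
      refine (Finset.prod_subset (Finset.subset_univ _) fun x _ hx => ?_).trans
        (Finset.prod_congr rfl fun x _ => by rw [Multiset.toFinsupp_apply])
      rw [Multiset.count_eq_zero.mpr (fun h => hx (Multiset.mem_toFinset.mpr h)), pow_zero]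
  rw [Φ, hdet, hgeo, ← Polynomial.coeToPowerSeries.ringHom_apply, map_prod, ← Finset.prod_mul_distrib]
  refine Finset.prod_eq_one fun i _ => ?_
  simp only [Polynomial.coeToPowerSeries.ringHom_apply, Polynomial.coe_sub, Polynomial.coe_one, Polynomial.coe_mul,
    Polynomial.coe_X, Polynomial.coe_C]
  ext k
  rcases k with _ | k
  · simp
  · simp only [sub_mul, one_mul, map_sub, PowerSeries.coeff_mk, mul_assoc, PowerSeries.coeff_succ_X_mul,
      PowerSeries.coeff_C_mul, PowerSeries.coeff_one, Nat.succ_ne_zero, if_false, pow_succ']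
    simp

theorem Φ_eq_one (a : Matrix (Fin m) (Fin m) A) : Φ a = 1 := by
  classical
  have hfield : ∀ (K : Type u) [Field K] [IsAlgClosed K] (a : Matrix (Fin m) (Fin m) K), Φ a = 1 := by
    intro K _ _ a
    obtain ⟨b, hb⟩ := exists_triangular m (Fin m → K) (by simp) (Matrix.toLin' a)
    let t := LinearMap.toMatrix b b (Matrix.toLin' a)
    have ht : ∀ i j, j < i → t i j = 0 := fun i j hij => by
      show LinearMap.toMatrix b b (Matrix.toLin' a) i j = 0
      rw [LinearMap.toMatrix_apply]
      by_contra h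
      exact absurd ((b.mem_span_image.mp (hb j)) (Finsupp.mem_support_iff.mpr h)) (not_le.mpr hij)
    have hab : LinearMap.toMatrix (Pi.basisFun K (Fin m)) (Pi.basisFun K (Fin m)) (Matrix.toLin' a) = a := by
      simp
    refine Eq.trans ?_ (Φ_triangular t ht)
    rw [Φ, Φ]
    congr 1
    · congr 1
      conv_lhs => rw [← hab, ← det_eq (Pi.basisFun K (Fin m))]
      exact det_eq b _
    · congr 1
      funext n
      conv_lhs => rw [← hab, ← trace_eq (Pi.basisFun K (Fin m)) _ (gam (Matrix.toLin' a) n) fun x => rfl]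
      exact trace_eq b _ _ fun x => rfl
  haveI : IsDomain (ULift.{u} ℤ) := ULift.ringEquiv.toMulEquiv.isDomain ℤ
  let R := MvPolynomial (Fin m × Fin m) (ULift.{u} ℤ)
  let K := AlgebraicClosure (FractionRing R)
  let j : R →+* K := (algebraMap (FractionRing R) K).comp (algebraMap R (FractionRing R))
  let G : Matrix (Fin m) (Fin m) R := fun i k => MvPolynomial.X (i, k)
  let e : R →+* A := MvPolynomial.eval₂Hom ((Int.castRingHom A).comp ULift.ringEquiv.toRingHom) fun p => a p.1 p.2
  have hG : Φ G = 1 := by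
    apply PowerSeries.map_injective j ((algebraMap (FractionRing R) K).injective.comp (IsFractionRing.injective R _))
    rw [map_Φ, map_one]
    exact hfield K _
  have : G.map e = a := by ext i k; exact MvPolynomial.eval₂Hom_X' _ _ _
  rw [← this, ← map_Φ, hG, map_one]

/-- The trace generating series of symmetric tensors is inverse to `det (1 - u t)`. -/
theorem main (M : Type u) [AddCommGroup M] [Module A M] [Module.Free A M] [Module.Finite A M] (u : M →ₗ[A] M)
    (γ : ∀ n : ℕ, Gam A M n →ₗ[A] Gam A M n)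
    (hγ : ∀ (n : ℕ) (x : Gam A M n), (γ n x).1 = PiTensorProduct.map (fun _ : Fin n => u) x.1) :
    (↑(SGA4h.detOneSub (ModuleCat.of A M) (ModuleCat.ofHom u)) : PowerSeries A) *
      PowerSeries.mk (fun n => LinearMap.trace A _ (γ n)) = 1 := by
  classical
  rcases subsingleton_or_nontrivial A with h | h
  · exact Subsingleton.elim _ _
  let b := (Module.Free.chooseBasis A M).reindex (Fintype.equivFin _)
  rw [det_eq b, funext fun n => trace_eq b u (γ n) (hγ n)]
  exact Φ_eq_one _

end Groth.Agent.H18Lin.MasterTheorem
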